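import Cfsg.Agent.INV.WS.FacB
import Cfsg.Agent.INV.WR.FacC

set_option autoImplicit false
set_option linter.unusedSectionVars false
set_option linter.unusedVariables false

namespace CL.WS

open Subgroup CL.MSS
open CL.WR (cl Wg K2 Fn.sq Fn.mem_of_odd)
open scoped commutatorElement

variable {G : Type*} [Group G] [Finite G] {A : Type*} [Group A] {V : Subgroup A} {z b c : A}
  {S : Sylow 2 A} {t : G} {ι : A →* G} {σ pr : A → G}

/-- all hypotheses -/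
structure Fc (V : Subgroup A) (z b c : A) (S : Sylow 2 A) (t : G) (ι : A →* G) (σ pr : A → G) :
    Prop where
  hA : HypA V z b S
  hC : HypC V z c S
  C : Cf V t ι
  h : Spl V t ι σ
  P : Pr V z ι σ pr

namespace Fc

variable (s : Fc V z b c S t ι σ pr) {a d e u v x y : A} {g k w : G}
include s

theorem t2 : t * t = 1 := Fn.sq s.C.t2

theorem tt (g : G) : t * (t * g * t⁻¹) * t⁻¹ = g := by
  rw [show t * (t * g * t⁻¹) * t⁻¹ = (t * t) * g * (t * t)⁻¹ by group, s.t2]; simp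

theorem tι (a : A) : t * ι a * t⁻¹ = ι a := mul_inv_eq_iff_eq_mul.2 (s.C.tι a)

theorem tcj (a : A) (g : G) :
    t * (ι a * g * (ι a)⁻¹) * t⁻¹ = ι a * (t * g * t⁻¹) * (ι a)⁻¹ := by
  rw [show t * (ι a * g * (ι a)⁻¹) * t⁻¹ = t * ι a * g * (t * ι a)⁻¹ by group, (s.C.tι a).eq]; group

theorem Vc (hu : u ∈ V) (hv : v ∈ V) : u * v = v * u := by
  rw [← inv_inj, mul_inv_rev, inv_eq_of_mul_eq_one_left (s.hA.sq _ hu),
    inv_eq_of_mul_eq_one_left (s.hA.sq _ hv), inv_eq_of_mul_eq_one_left (s.hA.sq _ (mul_mem hv hu))]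

theorem σ1 : σ 1 = 1 := by
  have := s.h.mul 1 (one_mem _) 1 (one_mem _)
  rw [mul_one] at this
  exact left_eq_mul.1 this

theorem σsq (hv : v ∈ V) : σ v * σ v = 1 := by rw [← s.h.mul v hv v hv, s.hA.sq v hv, s.σ1]

theorem τmul (hu : u ∈ V) (hv : v ∈ V) :
    t * σ u * t⁻¹ * (t * σ v * t⁻¹) = t * σ (u * v) * t⁻¹ := by rw [conj_mul, s.h.mul u hu v hv]

theorem σσ (hu : u ∈ V) (hv : v ∈ V) : Commute (σ u) (σ v) := by
  rw [Commute, SemiconjBy, ← s.h.mul u hu v hv, ← s.h.mul v hv u hu, s.Vc hu hv]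

theorem στ (hu : u ∈ V) (hv : v ∈ V) : Commute (σ u) (t * σ v * t⁻¹) := by
  rw [eq_inv_mul_of_mul_eq (s.h.diag v hv)]
  exact (s.σσ hu hv).inv_right.mul_right (s.h.comm u hu v hv)

theorem sep (hx : x ∈ V) (hy : y ∈ V) (e : t * σ x * t⁻¹ = σ y) : x = 1 := by
  have e' : t * σ y * t⁻¹ = σ x := by rw [← e, s.tt]
  have h1 : x = y := s.C.inj (by rw [← s.h.diag x hx, ← s.h.diag y hy, e, e', (s.σσ hx hy).eq])
  refine s.C.inj ?_
  rw [← s.h.diag x hx, e, ← h1, s.σsq hx, map_one]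

theorem uniq {y' : A} (h1 : K2 V t σ g y) (h2 : K2 V t σ g y') : y = y' := by
  obtain ⟨hy, x, hx, e⟩ := h1
  obtain ⟨hy', x', hx', e'⟩ := h2
  have h3 : y * y' = 1 := s.sep (mul_mem hy hy') (mul_mem hx hx') (by
    have i1 := inv_eq_of_mul_eq_one_left (s.σsq hx)
    have i2 := inv_eq_of_mul_eq_one_left (s.σsq hy')
    rw [← s.τmul hy hy', s.h.mul x hx x' hx', eq_inv_mul_of_mul_eq (e.symm.trans e'), i1, mul_assoc,
      mul_assoc, conj_mul, s.σsq hy']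
    simp)
  rw [eq_inv_of_mul_eq_one_left h3, inv_eq_of_mul_eq_one_left (s.hA.sq _ hy')]

theorem ofW (hw : w ∈ Wg σ ι V) : ∃ y, K2 V t σ w y := by
  obtain ⟨u, hu, v, hv, rfl⟩ := (s.h.mem_W s.hA).1 hw
  exact ⟨v, hv, u * v, mul_mem hu hv, by rw [s.h.mul u hu v hv, ← s.h.diag v hv, mul_assoc (σ u)]⟩

theorem σW (hv : v ∈ V) : σ v ∈ Wg σ ι V := subset_closure (Or.inl ⟨v, hv, rfl⟩)

theorem τW (hv : v ∈ V) : t * σ v * t⁻¹ ∈ Wg σ ι V := by
  rw [eq_inv_mul_of_mul_eq (s.h.diag v hv)]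
  exact mul_mem (inv_mem (s.σW hv)) (subset_closure (Or.inr ⟨v, hv, rfl⟩))

theorem cent_of (h1 : ∀ v ∈ V, Commute g (σ v)) (h2 : ∀ v ∈ V, Commute g (t * σ v * t⁻¹)) :
    g ∈ centralizer (Wg σ ι V : Set G) := fun w hw => by
  obtain ⟨y, hy, x, hx, rfl⟩ := s.ofW hw
  exact ((h1 x hx).mul_right (h2 y hy)).eq.symm

theorem norm_of (h1 : ∀ v ∈ V, g * σ v * g⁻¹ ∈ Wg σ ι V)
    (h2 : ∀ v ∈ V, g * (t * σ v * t⁻¹) * g⁻¹ ∈ Wg σ ι V) :
    g ∈ normalizer (centralizer (Wg σ ι V : Set G) : Set G) :=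
  normalizer_le_normalizer_centralizer _ (mem_normalizer_of_cj_le (cj_le_iff_forall.2 fun w hw => by
    obtain ⟨y, hy, x, hx, rfl⟩ := s.ofW hw
    rw [← conj_mul]
    exact mul_mem (h1 x hx) (h2 y hy)))

theorem zc : IsConj z c := by
  obtain ⟨a, -, ρ, h1, h2, -⟩ := s.hC.swap
  exact h1.trans (isConj_iff.2 ⟨ρ, h2⟩)

theorem zd (hd : d ∈ cl V c) : IsConj z d := by
  obtain ⟨n, -, e⟩ := hd
  exact s.zc.trans (isConj_iff.2 ⟨n, e⟩)

theorem dN (hd : d ∈ cl V c) : d ∈ normalizer (V : Set A) := by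
  obtain ⟨n, hn, rfl⟩ := hd
  exact mul_mem (mul_mem hn s.hC.cN) (inv_mem hn)

theorem cc : c ∈ cl V c := ⟨1, one_mem _, by simp⟩

theorem cl_conj (hd : d ∈ cl V c) {n : A} (hn : n ∈ normalizer (V : Set A)) :
    n * d * n⁻¹ ∈ cl V c := by
  obtain ⟨m, hm, rfl⟩ := hd
  exact ⟨n * m, mul_mem hn hm, by group⟩

theorem spec (ha : IsConj z a) :
    a * a = 1 ∧ pr a * pr a = 1 ∧ pr a * (t * pr a * t⁻¹) = ι a := by
  obtain ⟨g, rfl⟩ := isConj_iff.1 ha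
  rw [s.P.conj z (IsConj.refl z), s.P.eq z s.hA.zV (IsConj.refl z), conj_mul, conj_mul,
    s.σsq s.hA.zV, Fn.sq s.hA.z2, map_mul, map_mul, map_inv, ← s.h.diag z s.hA.zV]
  refine ⟨by simp, by simp, ?_⟩
  rw [s.tcj, conj_mul]

theorem right (hd : d ∈ cl V c) (hv : v ∈ V) : pr d * σ v * (pr d)⁻¹ = σ (d * v * d⁻¹) ∧
    Commute (pr d) (t * σ v * t⁻¹) := s.P.right s.hA s.hC s.C s.h d hd v hv

theorem left (hd : d ∈ cl V c) (hv : v ∈ V) :
    t * pr d * t⁻¹ * (t * σ v * t⁻¹) * (t * pr d * t⁻¹)⁻¹ = t * σ (d * v * d⁻¹) * t⁻¹ ∧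
      Commute (t * pr d * t⁻¹) (σ v) := by
  refine ⟨by rw [← (s.right hd hv).1]; group, ?_⟩
  have := (s.right hd hv).2.conj t
  rwa [s.tt] at this

theorem cV (hd : d ∈ cl V c) (hv : v ∈ V) : d * v * d⁻¹ ∈ V := (mem_normalizer_iff.1 (s.dN hd) v).1 hv

theorem nC (hd : d ∈ cl V c) : pr d ∈ normalizer (centralizer (Wg σ ι V : Set G) : Set G) :=
  s.norm_of (fun v hv => (s.right hd hv).1 ▸ s.σW (s.cV hd hv)) fun v hv => by
    rw [(s.right hd hv).2.eq, mul_inv_cancel_right]; exact s.τW hv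

theorem same (hd : d ∈ cl V c) (hg : g ∈ centralizer (Wg σ ι V : Set G)) :
    pr d * (g * g) * (pr d)⁻¹ = pr c * (g * g) * (pr c)⁻¹ := by
  obtain ⟨n, hn, rfl⟩ := hd
  have h1 := (s.h.cen_W s.hA s.C s.hC hg).2.2.2 n hn
  have h2 := (s.h.cen_W s.hA s.C s.hC ((mem_normalizer_iff.1 (s.nC s.cc) g).1 hg)).2.2.2 n hn
  rw [conj_mul] at h2
  rw [s.P.conj c s.zc, show ι n * pr c * (ι n)⁻¹ * (g * g) * (ι n * pr c * (ι n)⁻¹)⁻¹ =
    ι n * (pr c * ((ι n)⁻¹ * (g * g) * ι n) * (pr c)⁻¹) * (ι n)⁻¹ by group, h1.inv_left.eq,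
    inv_mul_cancel_right, h2.eq, mul_inv_cancel_right]

theorem gam : ∃ d ∈ cl V c, ∃ e ∈ cl V c,
    pr d * (pr e * (pr d * (pr e * pr c))) ∈ centralizer (Wg σ ι V : Set G) := by
  obtain ⟨d, hd, e, he, h4⟩ := s.hC.four
  refine ⟨d, hd, e, he, s.cent_of (fun v hv => mul_inv_eq_iff_eq_mul.1 ?_) fun v hv =>
    (s.right hd hv).2.mul_left ((s.right he hv).2.mul_left ((s.right hd hv).2.mul_left
      ((s.right he hv).2.mul_left (s.right s.cc hv).2)))⟩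
  have v1 := s.cV s.cc hv
  have v2 := s.cV he v1
  have v3 := s.cV hd v2
  have v4 := s.cV he v3
  rw [show pr d * (pr e * (pr d * (pr e * pr c))) * σ v * (pr d * (pr e * (pr d * (pr e * pr c))))⁻¹ =
    pr d * (pr e * (pr d * (pr e * (pr c * σ v * (pr c)⁻¹) * (pr e)⁻¹) * (pr d)⁻¹) * (pr e)⁻¹) *
      (pr d)⁻¹ by group, (s.right s.cc hv).1, (s.right he v1).1, (s.right hd v2).1, (s.right he v3).1,
    (s.right hd v4).1]
  congr 1
  rw [show d * (e * (d * (e * (c * v * c⁻¹) * e⁻¹) * d⁻¹) * e⁻¹) * d⁻¹ =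
    (d * e) ^ 2 * c * v * ((d * e) ^ 2 * c)⁻¹ by rw [pow_two]; group, s.Vc h4 hv, mul_inv_cancel_right]

theorem triv (hd : d ∈ cl V c) (hg : g ∈ centralizer (Wg σ ι V : Set G)) : Commute (pr d) (g * g) := by
  refine mul_inv_eq_iff_eq_mul.1 ((s.same hd hg).trans ?_)
  obtain ⟨d, hd, e, he, h4⟩ := s.gam
  have h1 := (s.h.cen_W s.hA s.C s.hC (mul_mem hg hg)).1 _ h4
  have h2 := (mem_normalizer_iff.1 (s.nC s.cc) g).1 hg
  have k : ∀ x ∈ cl V c, ∀ y ∈ cl V c, pr x * (pr y * (g * g) * (pr y)⁻¹) * (pr x)⁻¹ = g * g :=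
    fun x hx y hy => by
      rw [s.same hy hg, ← conj_mul (a := g) (b := pr c), s.same hx h2, conj_mul,
        show pr c * (pr c * (g * g) * (pr c)⁻¹) * (pr c)⁻¹ =
          (pr c * pr c) * (g * g) * (pr c * pr c)⁻¹ by group, (s.spec s.zc).2.1]
      simp
  have h3 := mul_inv_eq_iff_eq_mul.2 h1.eq
  rw [show pr d * (pr e * (pr d * (pr e * pr c))) * (g * g) *
      (pr d * (pr e * (pr d * (pr e * pr c))))⁻¹ =
    pr d * (pr e * (pr d * (pr e * (pr c * (g * g) * (pr c)⁻¹) * (pr e)⁻¹) * (pr d)⁻¹) * (pr e)⁻¹) *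
      (pr d)⁻¹ by group, k e he c s.cc, k e he d hd] at h3
  exact (s.same hd hg).symm.trans h3

theorem triv' (hd : d ∈ cl V c) (hg : g ∈ centralizer (Wg σ ι V : Set G)) :
    Commute (t * pr d * t⁻¹) (g * g) := by
  rw [eq_inv_mul_of_mul_eq (s.spec (s.zd hd)).2.2]
  exact (s.triv hd hg).inv_left.mul_left ((s.h.cen_W s.hA s.C s.hC hg).2.2.2 d (s.dN hd))

theorem kap (hd : d ∈ cl V c) (he : e ∈ cl V c) : ∃ y, K2 V t σ ⁅pr d, t * pr e * t⁻¹⁆ y := by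
  have hC : ⁅pr d, t * pr e * t⁻¹⁆ ∈ centralizer (Wg σ ι V : Set G) := by
    have i1 := inv_eq_of_mul_eq_one_left (s.spec (s.zd hd)).1
    have i2 := inv_eq_of_mul_eq_one_left (s.spec (s.zd he)).1
    have j1 := inv_eq_of_mul_eq_one_left (s.spec (s.zd hd)).2.1
    have j2 : (t * pr e * t⁻¹)⁻¹ = t * pr e * t⁻¹ := by
      rw [conj_inv, inv_eq_of_mul_eq_one_left (s.spec (s.zd he)).2.1]
    refine s.cent_of (fun v hv => mul_inv_eq_iff_eq_mul.1 ?_) fun v hv => mul_inv_eq_iff_eq_mul.1 ?_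
    · have k : ∀ v ∈ V, pr d * (t * pr e * t⁻¹) * σ v * (pr d * (t * pr e * t⁻¹))⁻¹ =
          σ (d * v * d⁻¹) := fun v hv => by
        rw [mul_assoc (pr d), (s.left he hv).2.eq, ← (s.right hd hv).1]; group
      rw [commutatorElement_def, j1, j2, mul_assoc _ (pr d), mul_inv_rev, ← mul_assoc,
        mul_assoc _ _ (σ v), mul_assoc _ (_ * σ v), k v hv, k _ (s.cV hd hv)]
      congr 1
      rw [show d * (d * v * d⁻¹) * d⁻¹ = (d * d) * v * (d * d)⁻¹ by group, (s.spec (s.zd hd)).1]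
      simp
    · have k : ∀ v ∈ V, pr d * (t * pr e * t⁻¹) * (t * σ v * t⁻¹) * (pr d * (t * pr e * t⁻¹))⁻¹ =
          t * σ (e * v * e⁻¹) * t⁻¹ := fun v hv => by
        rw [← mul_inv_eq_iff_eq_mul.2 (s.right hd (s.cV he hv)).2.eq, ← (s.left he hv).1]; group
      rw [commutatorElement_def, j1, j2, mul_assoc _ (pr d), mul_inv_rev, ← mul_assoc,
        mul_assoc _ _ (t * σ v * t⁻¹), mul_assoc _ (_ * (t * σ v * t⁻¹)), k v hv, k _ (s.cV he hv)]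
      congr 3
      rw [show e * (e * v * e⁻¹) * e⁻¹ = (e * e) * v * (e * e)⁻¹ by group, (s.spec (s.zd he)).1]
      simp
  obtain ⟨n, hn, h1⟩ := (s.h.cen_W s.hA s.C s.hC hC).2.1
  have h2 : pr d * ⁅pr d, t * pr e * t⁻¹⁆ * (pr d)⁻¹ = ⁅pr d, t * pr e * t⁻¹⁆⁻¹ := by
    rw [commutatorElement_inv, commutatorElement_def, commutatorElement_def, ← mul_assoc, ← mul_assoc,
      ← mul_assoc, (s.spec (s.zd hd)).2.1, one_mul,
      inv_eq_of_mul_eq_one_left (s.spec (s.zd hd)).2.1]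
  have h3 := mul_inv_eq_iff_eq_mul.2 (s.triv hd hC).eq
  rw [← conj_mul, h2, ← mul_inv_rev, inv_eq_iff_mul_eq_one] at h3
  exact s.ofW (Fn.mem_of_odd (MSS.isPGroup_zpowers (k := 2) (by
    rw [← h3, show 2 ^ 2 = 2 + 2 from rfl, pow_add, pow_two])) hn h1)

theorem step {y' : A} (hd : d ∈ cl V c) (h1 : K2 V t σ ⁅pr d, k⁆ y) (h2 : K2 V t σ ⁅g, k⁆ y') :
    K2 V t σ ⁅pr d * g, k⁆ (y' * y) := by
  obtain ⟨hy, x, hx, e⟩ := h1
  obtain ⟨hy', x', hx', e'⟩ := h2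
  refine ⟨mul_mem hy' hy, d * x' * d⁻¹ * x, mul_mem (s.cV hd hx') hx, ?_⟩
  rw [show ⁅pr d * g, k⁆ = pr d * ⁅g, k⁆ * (pr d)⁻¹ * ⁅pr d, k⁆ by
      simp only [commutatorElement_def]; group,
    e, e', ← conj_mul, (s.right hd hx').1, mul_inv_eq_iff_eq_mul.2 (s.right hd hy').2.eq,
    s.h.mul _ (s.cV hd hx') x hx, ← s.τmul hy' hy, mul_assoc, mul_assoc (σ _),
    ← mul_assoc (t * σ y' * t⁻¹), ← (s.στ hx hy').eq, mul_assoc (σ x)]

theorem exists_u : ∃ u ∈ V, ∀ e ∈ cl V c, K2 V t σ ⁅pr c, t * pr e * t⁻¹⁆ (u * (e * u * e⁻¹)) := by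
  obtain ⟨d₀, hd, e₀, he₀, h4⟩ := s.gam
  obtain ⟨n, ⟨m, rfl⟩, h1⟩ := (s.h.cen_W s.hA s.C s.hC h4).2.1
  obtain ⟨u, hu, v, hv, h2⟩ := s.ofW h1
  refine ⟨u, hu, fun e he => ?_⟩
  obtain ⟨y1, k1⟩ := s.kap hd he
  obtain ⟨y2, k2⟩ := s.kap he₀ he
  obtain ⟨y3, k3⟩ := s.kap s.cc he
  have k4 := s.step hd k1 (s.step he₀ k2 (s.step hd k1 (s.step he₀ k2 k3)))
  have e1 : y3 * y2 * y1 * y2 * y1 = y3 := by
    rw [mul_assoc (y3 * y2 * y1), mul_assoc y3, mul_assoc y3, s.hA.sq _ (mul_mem k2.1 k1.1), mul_one]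
  rw [e1] at k4
  generalize pr d₀ * (pr e₀ * (pr d₀ * (pr e₀ * pr c))) = γ at h4 h2 k4
  have h3 := s.triv' he (pow_mem h4 m)
  have h5 : γ = σ v * (t * σ u * t⁻¹) * (γ ^ m * γ ^ m)⁻¹ := by rw [← h2]; group
  have k5 : K2 V t σ ⁅γ, t * pr e * t⁻¹⁆ (u * (e * u * e⁻¹)) := by
    refine ⟨mul_mem hu (s.cV he hu), 1, one_mem _, ?_⟩
    have i1 : (t * σ u * t⁻¹)⁻¹ = t * σ u * t⁻¹ := by
      rw [conj_inv, inv_eq_of_mul_eq_one_left (s.σsq hu)]
    have k : ∀ x y o k : G, Commute k o → Commute k x → Commute x y → y⁻¹ = y →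
        ⁅x * y * o⁻¹, k⁆ = y * (k * y * k⁻¹) := fun x y o k a1 a2 a3 a4 => by
      rw [show ⁅x * y * o⁻¹, k⁆ = x * y * (o⁻¹ * k * o) * (x * y)⁻¹ * k⁻¹ by
        rw [commutatorElement_def]; group, ← a1.inv_right.eq, inv_mul_cancel_right, a3.eq,
        mul_assoc y, ← a2.eq, mul_inv_rev, a4]
      group
    rw [h5, s.σ1, one_mul, ← s.τmul hu (s.cV he hu), ← (s.left he hu).1,
      k _ _ _ _ h3 (s.left he hv).2 (s.στ hv hu) i1]
  rwa [s.uniq k4 k5] at k3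

theorem kconj (h : K2 V t σ g y) {n : A} (hn : n ∈ normalizer (V : Set A)) :
    K2 V t σ (ι n * g * (ι n)⁻¹) (n * y * n⁻¹) := by
  obtain ⟨hy, x, hx, rfl⟩ := h
  refine ⟨(mem_normalizer_iff.1 hn y).1 hy, n * x * n⁻¹, (mem_normalizer_iff.1 hn x).1 hx, ?_⟩
  rw [← s.h.conj n hn x hx, ← s.h.conj n hn y hy, s.tcj, conj_mul]

theorem cconj (hd : IsConj z d) (he : IsConj z e) (n : A) : ι n * ⁅pr d, t * pr e * t⁻¹⁆ * (ι n)⁻¹ =
    ⁅pr (n * d * n⁻¹), t * pr (n * e * n⁻¹) * t⁻¹⁆ := by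
  rw [s.P.conj d hd, s.P.conj e he, s.tcj, conjugate_commutatorElement]

theorem k1 (hd : d ∈ cl V c) (he : e ∈ cl V c) : K2 V t σ ⁅pr d, t * pr e * t⁻¹⁆ 1 := by
  obtain ⟨u, hu, h1⟩ := s.exists_u
  have h2 : u = 1 := s.hC.fixc u hu fun n hn hc => by
    have un := (mem_normalizer_iff.1 hn u).1 hu
    have h3 := s.hC.fixcl (n * u * n⁻¹ * u) (mul_mem un hu) fun e he => by
      have he' := s.cl_conj he (inv_mem hn)
      have h4 := s.kconj (h1 _ he') hn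
      rw [s.cconj s.zc (s.zd he'), hc.eq, mul_inv_cancel_right,
        show n * (n⁻¹ * e * n⁻¹⁻¹) * n⁻¹ = e by group] at h4
      have h5 := s.uniq h4 (h1 e he)
      rw [show n * (u * (n⁻¹ * e * n⁻¹⁻¹ * u * (n⁻¹ * e * n⁻¹⁻¹)⁻¹)) * n⁻¹ =
        n * u * n⁻¹ * (e * (n * u * n⁻¹) * e⁻¹) by group] at h5
      refine mul_inv_eq_iff_eq_mul.1 ?_
      rw [← conj_mul, eq_inv_mul_of_mul_eq h5, inv_eq_of_mul_eq_one_left (s.hA.sq _ un), mul_assoc,
        mul_assoc u, s.hA.sq _ (s.cV he hu), mul_one]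
    exact mul_inv_eq_iff_eq_mul.1
      ((eq_inv_of_mul_eq_one_left h3).trans (inv_eq_of_mul_eq_one_left (s.hA.sq _ hu)))
  obtain ⟨n, hn, rfl⟩ := hd
  have he' := s.cl_conj he (inv_mem hn)
  have h4 := s.kconj (h1 _ he') hn
  rw [s.cconj s.zc (s.zd he'), show n * (n⁻¹ * e * n⁻¹⁻¹) * n⁻¹ = e by group, h2] at h4
  simpa using h4

theorem comm (hd : d ∈ cl V c) (he : e ∈ cl V c) : Commute (pr d) (t * pr e * t⁻¹) := by
  obtain ⟨-, x, hx, e1⟩ := s.k1 hd he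
  obtain ⟨-, y, hy, e2⟩ := s.k1 he hd
  rw [s.σ1, mul_one, mul_inv_cancel, mul_one] at e1 e2
  have h1 : x = 1 := s.sep hx hy (by
    rw [← inv_eq_of_mul_eq_one_left (s.σsq hy), ← e1, ← e2, conjugate_commutatorElement, s.tt,
      commutatorElement_inv])
  rw [h1, s.σ1] at e1
  exact commutatorElement_eq_one_iff_commute.1 e1

theorem comm' (hd : d ∈ cl V c ∨ d ∈ cl V z) (he : e ∈ cl V c ∨ e ∈ cl V z) :
    Commute (pr d) (t * pr e * t⁻¹) := by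
  have k : ∀ {x}, x ∈ cl V z → x ∈ V ∧ pr x = σ x := fun ⟨n, hn, e⟩ =>
    have := e ▸ (mem_normalizer_iff.1 hn z).1 s.hA.zV
    ⟨this, s.P.eq _ this (isConj_iff.2 ⟨n, e⟩)⟩
  rcases hd with hd | hd <;> rcases he with he | he
  · exact s.comm hd he
  · rw [(k he).2]; exact (s.right hd (k he).1).2
  · rw [(k hd).2]; exact (s.left he (k hd).1).2.symm
  · rw [(k hd).2, (k he).2]; exact s.στ (k hd).1 (k he).1

end Fc

/-- `x'' = t x' t⁻¹`; `d'` and `e''` commute. -/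
theorem Pr.comm (hA : HypA V z b S) (hC : HypC V z c S) (C : Cf V t ι) (h : Spl V t ι σ)
    (P : Pr V z ι σ pr) : ∀ d ∈ cl V c, ∀ e ∈ cl V c, Commute (pr d) (t * pr e * t⁻¹) :=
  fun _ hd _ he => Fc.comm ⟨hA, hC, C, h, P⟩ hd he

/-- `[j', k''] = 1` for `j, k ∈ J`.  `A' = ⟨j'⟩` commutes with `t A' t⁻¹`, `x ↦ x · t x t⁻¹` maps `A'`
onto `ι(A)` with central kernel; take the derived subgroup of `A'`. -/
theorem Pr.exists_wr (hA : HypA V z b S) (hC : HypC V z c S) (C : Cf V t ι) (h : Spl V t ι σ)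
    (P : Pr V z ι σ pr) : ∃ K, Wr t ι.range K := by
  have s : Fc V z b c S t ι σ pr := ⟨hA, hC, C, h, P⟩
  obtain ⟨J, hJ, hg⟩ := hC.gen
  have hz : ∀ j ∈ J, IsConj z j := fun j hj => by
    obtain ⟨y, h1 | ⟨n, -, h1⟩, -⟩ := hg j hj j hj
    · exact (s.zd h1).trans (isConj_iff.2 ⟨y, rfl⟩).symm
    · exact (isConj_iff.2 ⟨n, h1⟩).trans (isConj_iff.2 ⟨y, rfl⟩).symm
  have h1 : ∀ j ∈ J, ∀ k ∈ J, Commute (pr j) (t * pr k * t⁻¹) := fun j hj k hk => by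
    obtain ⟨y, a1, a2⟩ := hg j hj k hk
    have := commutatorElement_eq_one_iff_commute.2 (s.comm' a1 a2)
    rw [← s.cconj (hz j hj) (hz k hk), conj_eq_one_iff] at this
    exact commutatorElement_eq_one_iff_commute.1 this
  have h2 : ∀ x ∈ closure (pr '' J), ∀ y ∈ closure (pr '' J), Commute x (t * y * t⁻¹) :=
    fun x hx y hy => by
      induction hx, hy using closure_induction₂ with
      | mem x y hx hy =>
        obtain ⟨j, hj, rfl⟩ := hx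
        obtain ⟨k, hk, rfl⟩ := hy
        exact h1 j hj k hk
      | one_left => exact Commute.one_left _
      | one_right => simp
      | mul_left _ _ _ _ _ _ a1 a2 => exact a1.mul_left a2
      | mul_right _ _ _ _ _ _ a1 a2 => rw [← conj_mul]; exact a1.mul_right a2
      | inv_left _ _ _ _ a1 => exact a1.inv_left
      | inv_right _ _ _ _ a1 => rw [← conj_inv]; exact a1.inv_right
  let δ : closure (pr '' J) →* G := MonoidHom.mk' (fun x => x * (t * x * t⁻¹)) fun x y => by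
    rw [coe_mul, ← conj_mul, mul_assoc, mul_assoc (x : G), ← mul_assoc (y : G), (h2 y y.2 x x.2).eq,
      mul_assoc (t * x * t⁻¹)]
  have h3 : ∀ x, δ x ∈ ι.range := fun ⟨x, hx⟩ => by
    induction hx using closure_induction with
    | mem x hx =>
      obtain ⟨j, hj, rfl⟩ := hx
      exact ⟨j, (s.spec (hz j hj)).2.2.symm⟩
    | one => exact (map_one δ).symm ▸ one_mem _
    | mul x y hx hy a1 a2 => exact (map_mul δ ⟨x, hx⟩ ⟨y, hy⟩).symm ▸ mul_mem a1 a2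
    | inv x hx a1 => exact (map_inv δ ⟨x, hx⟩).symm ▸ inv_mem a1
  have h4 : δ.range = ι.range := le_antisymm (by rintro _ ⟨x, rfl⟩; exact h3 x) (by
    rw [MonoidHom.range_eq_map ι, ← hJ, MonoidHom.map_closure, closure_le]
    rintro _ ⟨j, hj, rfl⟩
    exact ⟨⟨pr j, subset_closure ⟨j, hj, rfl⟩⟩, (s.spec (hz j hj)).2.2⟩)
  have h5 : δ.ker ≤ center _ := fun x hx => mem_center_iff.2 fun y => Subtype.ext (by
    have e : (x : G) * (t * x * t⁻¹) = 1 := hx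
    have := (h2 y y.2 x x.2).inv_right
    rw [← eq_inv_of_mul_eq_one_left e] at this
    exact this.eq)
  have h6 : (commutator _).map δ = ι.range := by
    rw [commutator_def, map_commutator, ← MonoidHom.range_eq_map, h4, MonoidHom.range_eq_map,
      ← map_commutator, hA.perf]
  have h7 : ∀ x, ∃ y ∈ commutator _, ∃ w ∈ center (closure (pr '' J)), x = y * w := fun x => by
    obtain ⟨y, hy, e⟩ : δ x ∈ (commutator _).map δ := h6 ▸ h3 x
    exact ⟨y, hy, y⁻¹ * x, h5 (by rw [MonoidHom.mem_ker, map_mul, map_inv, e, inv_mul_cancel]),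
      by group⟩
  have h8 : ⁅commutator (closure (pr '' J)), commutator (closure (pr '' J))⁆ = commutator _ := by
    refine le_antisymm (commutator_mono le_top le_top) (commutator_le.2 fun x _ x' _ => ?_)
    obtain ⟨y, hy, w, hw, rfl⟩ := h7 x
    obtain ⟨y', hy', w', hw', rfl⟩ := h7 x'
    have k1 : ∀ g, w * g * w⁻¹ = g := fun g => by rw [← mem_center_iff.1 hw g, mul_inv_cancel_right]
    have k2 : ∀ g, w' * g * w'⁻¹ = g := fun g => by rw [← mem_center_iff.1 hw' g, mul_inv_cancel_right]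
    have : ⁅y * w, y' * w'⁆ = ⁅y, y'⁆ := by
      simp only [commutatorElement_def]
      calc _ = y * (w * (y' * w') * w⁻¹) * y⁻¹ * (y' * w')⁻¹ := by group
        _ = y * y' * (w' * y⁻¹ * w'⁻¹) * y'⁻¹ := by rw [k1]; group
        _ = _ := by rw [k2]
    exact this ▸ commutator_mem_commutator hy hy'
  refine ⟨(commutator _).map (closure (pr '' J)).subtype, by rw [← map_commutator, h8],
    fun x hx y hy => h2 x (map_subtype_le _ hx) y (map_subtype_le _ hy), fun l => ?_⟩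
  rw [← h6]
  exact ⟨fun ⟨x, hx, e⟩ => ⟨x, ⟨x, hx, rfl⟩, e.symm⟩, fun ⟨_, ⟨x, hx, rfl⟩, e⟩ => ⟨x, hx, e.symm⟩⟩

end CL.WS
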