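import Cfsg.Agent.INV.WS.FacA

set_option autoImplicit false

namespace CL.WS

open Subgroup
open CL.WR (cl Sec)
open CL.WR.Fa (inv_eq)

universe u

namespace SC

variable {G : Type u} [Group G] {A : Type*} [Group A] {V : Subgroup A} {z b c : A}
  {S : Sylow 2 A} {m q : ℕ} {t : G} {ι : A →* G}

/-- `u` centralises `ι V` and translates `t` by `a` -/
structure T (V : Subgroup A) (ι : A →* G) (t u : G) (a : A) : Prop where
  mem : a ∈ V
  cen : ∀ x ∈ V, Commute u (ι x)
  eq : u * t * u⁻¹ = t * ι a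

theorem cmem {n v : A} (hn : n ∈ normalizer (V : Set A)) (hv : v ∈ V) : n * v * n⁻¹ ∈ V :=
  (mem_normalizer_iff.1 hn v).1 hv

theorem ιι (hA : HypA V z b S) (ι : A →* G) {a : A} (ha : a ∈ V) : ι a * ι a = 1 := by
  rw [← map_mul, hA.sq a ha, map_one]

theorem Tt (C : Cf V t ι) : T V ι t t 1 := ⟨V.one_mem, fun x _ => C.tι x, by simp⟩

theorem Tι (hA : HypA V z b S) (C : Cf V t ι) {v : A} (hv : v ∈ V) : T V ι t (ι v) 1 :=
  ⟨V.one_mem, fun x hx => (comm_of_sq hA.sq hv hx).map ι, by rw [← (C.tι v).eq]; simp⟩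

namespace T

variable {u u' : G} {a a' : A}

theorem mul (h : T V ι t u a) (h' : T V ι t u' a') : T V ι t (u * u') (a * a') :=
  ⟨mul_mem h.mem h'.mem, fun x hx => (h.cen x hx).mul_left (h'.cen x hx), by
    calc _ = u * (u' * t * u'⁻¹) * u⁻¹ := by group
      _ = u * t * (ι a' * u⁻¹) := by rw [h'.eq]; group
      _ = u * t * u⁻¹ * ι a' := by rw [← (h.cen a' h'.mem).inv_left.eq]; group
      _ = _ := by rw [h.eq, map_mul, mul_assoc]⟩

theorem ut (h : T V ι t u a) : u * t = t * u * ι a := by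
  rw [mul_assoc, (h.cen a h.mem).eq, ← mul_assoc, ← h.eq]; group

theorem tu (hA : HypA V z b S) (h : T V ι t u a) : t * u = u * t * ι a := by
  rw [h.ut, mul_assoc, ιι hA ι h.mem, mul_one]

theorem inv (hA : HypA V z b S) (h : T V ι t u a) : T V ι t u⁻¹ a :=
  ⟨h.mem, fun x hx => (h.cen x hx).inv_left, by
    rw [inv_inv, mul_assoc, h.tu hA]; group⟩

theorem ker (hA : HypA V z b S) (C : Cf V t ι) (h : T V ι t u 1) :
    ∃ v ∈ V, u = ι v ∨ u = t * ι v := by
  have h1 : Commute u t := by simpa [Commute, SemiconjBy] using h.ut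
  obtain ⟨x, e | e⟩ := C.cenC h1 h.cen
  · exact ⟨x, hA.cenV fun v hv => C.inj (by simpa [e] using (h.cen v hv).eq), Or.inl e⟩
  · refine ⟨x, hA.cenV fun v hv => C.inj ?_, Or.inr e⟩
    have := (C.tι v).mul_left (h.cen v hv)
    rw [e, ← mul_assoc, C.tt, one_mul] at this
    simpa using this.eq

theorem uniq (C : Cf V t ι) (h : T V ι t u a) (h' : T V ι t u a') : a = a' :=
  C.inj (mul_left_cancel (h.eq.symm.trans h'.eq))

theorem conj (C : Cf V t ι) {n : A} (hn : n ∈ normalizer (V : Set A)) (h : T V ι t u a) :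
    T V ι t (ι n * u * (ι n)⁻¹) (n * a * n⁻¹) :=
  ⟨cmem hn h.mem, fun x hx => by
    have := (h.cen _ (cmem (inv_mem hn) hx)).eq
    simp only [map_mul, map_inv] at this
    calc _ = ι n * (u * ((ι n)⁻¹ * ι x * (ι n)⁻¹⁻¹)) * (ι n)⁻¹ := by group
      _ = _ := by rw [this]; group, by
    have := (C.tι n).eq
    calc _ = ι n * (u * ((ι n)⁻¹ * (t * ι n)) * u⁻¹) * (ι n)⁻¹ := by group
      _ = ι n * (u * t * u⁻¹) * (ι n)⁻¹ := by rw [this]; group
      _ = (ι n * t) * ι a * (ι n)⁻¹ := by rw [h.eq]; group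
      _ = _ := by rw [← this, map_mul, map_mul, map_inv]; group⟩

theorem diff (hA : HypA V z b S) (C : Cf V t ι) (h : T V ι t u a) (h' : T V ι t u' a) :
    ∃ v ∈ V, u' = u * ι v ∨ u' = u * t * ι v := by
  have := (h.inv hA).mul h'
  rw [hA.sq a h.mem] at this
  obtain ⟨v, hv, e | e⟩ := this.ker hA C
  · exact ⟨v, hv, Or.inl (by rw [← e]; group)⟩
  · exact ⟨v, hv, Or.inr (by rw [mul_assoc, ← e]; group)⟩

theorem sqι (hA : HypA V z b S) (h : T V ι t u a) {v : A} (hv : v ∈ V) :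
    u * ι v * (u * ι v) = u * u := by
  calc _ = u * (ι v * u) * ι v := by group
    _ = u * u * (ι v * ι v) := by rw [← (h.cen v hv).eq]; group
    _ = _ := by rw [ιι hA ι hv, mul_one]

theorem sqt (hA : HypA V z b S) (C : Cf V t ι) (h : T V ι t u a) :
    u * t * (u * t) = u * u * ι a := by
  calc _ = u * (t * u) * t := by group
    _ = u * u * (t * ι a * t) := by rw [h.tu hA]; group
    _ = _ := by rw [(C.tι a).eq, mul_assoc (ι a), C.tt, mul_one]

theorem sqtι (hA : HypA V z b S) (C : Cf V t ι) (h : T V ι t u a) {v : A} (hv : v ∈ V) :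
    u * t * ι v * (u * t * ι v) = u * u * ι a := by
  rw [(h.mul (Tt C)).sqι hA hv, h.sqt hA C]

theorem sq1 (hA : HypA V z b S) (C : Cf V t ι) (h : T V ι t u 1) : u * u = 1 := by
  obtain ⟨v, hv, rfl | rfl⟩ := h.ker hA C
  · exact ιι hA ι hv
  · rw [(Tt C).sqι hA hv, C.tt]

theorem sq (hA : HypA V z b S) (C : Cf V t ι) (h : T V ι t u a) : ∃ v ∈ V, u * u = ι v := by
  have := h.mul h
  rw [hA.sq a h.mem] at this
  obtain ⟨v, hv, e | e⟩ := this.ker hA C
  · exact ⟨v, hv, e⟩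
  · exfalso
    have h1 : t = u * u * ι v := by rw [e, mul_assoc, ιι hA ι hv, mul_one]
    have h2 : Commute u t := h1 ▸ ((Commute.refl u).mul_right (Commute.refl u)).mul_right (h.cen v hv)
    have h3 : T V ι t u 1 := ⟨V.one_mem, h.cen, by rw [h2.eq]; simp⟩
    rw [h3.sq1 hA C, one_mul] at h1
    exact C.tn v h1

theorem same (hA : HypA V z b S) (C : Cf V t ι) (h : T V ι t u a) (h' : T V ι t u' a) (a1 : a ≠ 1)
    (e : u * u = u' * u') : ∃ v ∈ V, u' = u * ι v := by
  obtain ⟨v, hv, e' | e'⟩ := h.diff hA C h'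
  · exact ⟨v, hv, e'⟩
  · rw [e', h.sqtι hA C hv, left_eq_mul, ← map_one ι] at e
    exact absurd (C.inj e) a1

theorem swap (hA : HypA V z b S) (C : Cf V t ι) (h : T V ι t u a) (h' : T V ι t u' a') :
    ∃ y ∈ V, u' * u = u * u' * ι y := by
  obtain ⟨v, hv, e⟩ := h.sq hA C
  obtain ⟨v', hv', e'⟩ := h'.sq hA C
  obtain ⟨w, hw, f⟩ := (h.mul h').sq hA C
  refine ⟨v⁻¹ * v'⁻¹ * w, mul_mem (mul_mem (inv_mem hv) (inv_mem hv')) hw, ?_⟩
  have h1 := (h'.cen _ (inv_mem hv)).eq
  have h2 := (h'.inv hA).cen w hw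
  rw [map_inv, ← e] at h1
  rw [map_mul, map_mul, map_inv, map_inv, ← e, ← e']
  calc _ = u⁻¹ * (u * u' * (u * u')) * u'⁻¹ := by group
    _ = u⁻¹ * u'⁻¹ * ι w := by rw [f, mul_assoc, ← h2.eq, mul_assoc]
    _ = u * ((u * u)⁻¹ * u') * (u' * u')⁻¹ * ι w := by group
    _ = _ := by rw [← h1]; group

end T

/-- (S) -/
theorem T.sqS (hA : HypA V z b S) (hB : HypB.{u} V z S m) (C : Cf V t ι) {u : G} {a : A}
    (h : T V ι t u a) : u * u = 1 ∨ u * u = ι a := by
  have key : ∀ {u : G} {a : A}, T V ι t u a → a = z → u * u = 1 ∨ u * u = ι a := by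
    intro u a h hab
    obtain ⟨v, hv, e⟩ := h.sq hA C
    have h1 : ∀ n ∈ normalizer (V : Set A), Commute n a → ∃ x ∈ V,
        (ι n * u * (ι n)⁻¹ = u * ι x ∧ n * v * n⁻¹ = v) ∨
          (ι n * u * (ι n)⁻¹ = u * t * ι x ∧ n * v * n⁻¹ = v * a) := by
      intro n hn hna
      have h2 := h.conj C hn
      rw [hna.eq, mul_inv_cancel_right] at h2
      have h3 : ι n * u * (ι n)⁻¹ * (ι n * u * (ι n)⁻¹) = ι (n * v * n⁻¹) := by
        rw [map_mul, map_mul, map_inv, ← e]; group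
      obtain ⟨x, hx, e' | e'⟩ := h.diff hA C h2
      · refine ⟨x, hx, Or.inl ⟨e', C.inj ?_⟩⟩
        rw [← h3, e', h.sqι hA hx, e]
      · refine ⟨x, hx, Or.inr ⟨e', C.inj ?_⟩⟩
        rw [← h3, e', h.sqtι hA C hx, e, map_mul]
    have h2 : v = 1 ∨ v = a := by
      subst hab
      refine hB.sq v hv fun n hn hna => ?_
      obtain ⟨x, -, h3 | h3⟩ := h1 n hn hna
      exacts [Or.inl h3.2, Or.inr h3.2]
    rcases h2 with rfl | rfl
    · left; rw [e, map_one]
    · exact Or.inr e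
  have key2 : ∀ d, d = z → a ∈ cl V d → u * u = 1 ∨ u * u = ι a := by
    rintro d hd ⟨n, hn, rfl⟩
    have h1 := h.conj C (inv_mem hn)
    rw [show n⁻¹ * (n * d * n⁻¹) * n⁻¹⁻¹ = d by group, map_inv] at h1
    have h2 : u * u = ι n * ((ι n)⁻¹ * u * (ι n)⁻¹⁻¹ * ((ι n)⁻¹ * u * (ι n)⁻¹⁻¹)) * (ι n)⁻¹ := by group
    rw [h2]
    rcases key h1 hd with e | e <;> rw [e] <;> simp
  rcases hB.orb a h.mem with rfl | h1
  · exact Or.inl (h.sq1 hA C)
  · exact key2 z rfl h1

theorem sec_of (hA : HypA V z b S) (C : Cf V t ι) (ε : Bool) {w : A → G}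
    (hT : ∀ a ∈ V, T V ι t (w a) a) (w1 : w 1 = 1) (hs : ∀ a ∈ V, w a * w a = cond ε (ι a) 1)
    (ww : ∀ u ∈ V, ∀ v ∈ V, Commute (w u) (w v)) : Sec V ε ι w where
  inj := C.inj
  ww := ww
  wι := fun u hu => (hT u hu).cen
  mul := by
    intro u hu v hv
    by_cases h : u * v = 1
    · have : v = u := mul_left_cancel (h.trans (hA.sq u hu).symm)
      subst this
      rw [h, w1, hs v hv]
      cases ε
      · exact ⟨1, V.one_mem, by simp⟩
      · exact ⟨v, hv, (ιι hA ι hv).symm⟩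
    · refine ((hT u hu).mul (hT v hv)).same hA C (hT _ (mul_mem hu hv)) h ?_
      rw [hs _ (mul_mem hu hv)]
      calc _ = w u * (w v * w u) * w v := by group
        _ = w u * w u * (w v * w v) := by rw [← (ww u hu v hv).eq]; group
        _ = _ := by rw [hs u hu, hs v hv]; cases ε <;> simp
  conj := by
    intro n hn v hv
    by_cases h : n * v * n⁻¹ = 1
    · have : v = 1 := by simpa using h
      exact ⟨1, V.one_mem, by simp [this, w1]⟩
    · refine (hT _ (cmem hn hv)).same hA C ((hT v hv).conj C hn) h ?_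
      rw [hs _ (cmem hn hv)]
      calc _ = ι n * (w v * w v) * (ι n)⁻¹ := by rw [hs v hv]; cases ε <;> simp
        _ = _ := by group
  sq := hs

theorem spl_of (hA : HypA V z b S) (hB : HypB.{u} V z S m) (C : Cf V t ι) {w : A → G}
    (hT : ∀ a ∈ V, T V ι t (w a) a) (h : Sec V false ι w) : ∃ σ, Spl V t ι σ := by
  obtain ⟨σ, h1, h2, h3⟩ := hB.ext0 G ι w h
  have hσ : ∀ v ∈ V, T V ι t (σ v) v := fun v hv => by
    obtain ⟨x, hx, e⟩ := h1 v hv
    simpa [e] using (hT v hv).mul (Tι hA C hx)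
  have σ1 : σ 1 = 1 := by
    have := h2 1 V.one_mem 1 V.one_mem
    rw [mul_one] at this
    exact left_eq_mul.1 this
  refine ⟨σ, h2, fun u hu => (hσ u hu).cen, fun v hv => ?_, h3⟩
  rw [(hσ v hv).tu hA, mul_assoc (σ v) t, (C.tι v).eq, ← mul_assoc (σ v) (ι v),
    mul_inv_cancel_right, ← mul_assoc, ← h2 v hv v hv, hA.sq v hv, σ1, one_mul]

end SC

open SC

variable {G : Type u} [Group G] [Finite G] {A : Type*} [Group A] {V : Subgroup A} {z b c : A}
  {S : Sylow 2 A} {m q : ℕ} {t : G} {ι : A →* G}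

/-- choose `w a` translating `t` by `a`, `(w a)² = 1`; either all `w a` or all `t w a` commute -/
theorem exists_spl_of (hA : HypA V z b S) (hB : HypB.{u} V z S m) (C : Cf V t ι)
    (tr : ∀ v ∈ V, ∃ u : G, (∀ x ∈ V, Commute u (ι x)) ∧ u * t * u⁻¹ = t * ι v) :
    ∃ σ, Spl V t ι σ := by
  classical
  have : Finite A := Finite.of_injective _ C.inj
  have ex : ∀ a : A, ∃ u : G, (a = 1 → u = 1) ∧ (a ∈ V → T V ι t u a ∧ u * u = 1) := by
    intro a
    by_cases a1 : a = 1
    · exact ⟨1, fun _ => rfl, fun ha => ⟨⟨ha, fun x _ => Commute.one_left _, by simp [a1]⟩, by simp⟩⟩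
    by_cases ha : a ∈ V
    · obtain ⟨u, h1, h2⟩ := tr a ha
      have h : T V ι t u a := ⟨ha, h1, h2⟩
      rcases h.sqS hA hB C with e | e
      · exact ⟨u, fun h => absurd h a1, fun _ => ⟨h, e⟩⟩
      · exact ⟨u * t, fun h => absurd h a1, fun _ => ⟨by simpa using h.mul (Tt C), by
          rw [h.sqt hA C, e, ιι hA ι ha]⟩⟩
    · exact ⟨1, fun _ => rfl, fun h => absurd h ha⟩
  choose w w1 hw using ex
  have hT : ∀ a ∈ V, T V ι t (w a) a := fun a ha => (hw a ha).1
  have ws : ∀ a ∈ V, w a * w a = 1 := fun a ha => (hw a ha).2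
  replace w1 := w1 1 rfl
  let F : A → A → Prop := fun a d => Commute (w a) (w d)
  have κ : ∀ a ∈ V, ∀ d ∈ V, ¬ F a d → w d * w a = w a * w d * ι (a * d) := by
    intro a ha d hd hF
    have i : w d * w a = (w a * w d)⁻¹ := by rw [mul_inv_rev, inv_eq (ws a ha), inv_eq (ws d hd)]
    rcases ((hT a ha).mul (hT d hd)).sqS hA hB C with e | e
    · exact absurd (i.trans (inv_eq e)).symm hF
    · rw [i, ← inv_eq (ιι hA ι (mul_mem ha hd)), ← e]; group
  have bil : ∀ a ∈ V, ∀ d ∈ V, ∀ e ∈ V, a ≠ 1 → d ≠ 1 → d ≠ a → e ≠ 1 → e ≠ a → e ≠ d → e ≠ a * d →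
      F a d → F a e := by
    intro a ha d hd e he a1 d1 da e1 ea ed ead h1
    by_contra h2
    have k1 := κ a ha e he h2
    have hde := mul_mem hd he
    have hT' := (hT d hd).mul (hT e he)
    have k2 : w d * w e * w a = w a * (w d * w e) * ι (a * e) := by
      rw [mul_assoc, k1, ← mul_assoc, ← mul_assoc, ← (show w a * w d = w d * w a from h1.eq)]; group
    have k3 : ∃ y, (y = a * e ∨ y = e) ∧ w (d * e) * w a = w a * w (d * e) * ι y := by
      obtain ⟨x, hx, f | f⟩ := hT'.diff hA C (hT _ hde)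
      · refine ⟨_, Or.inl rfl, ?_⟩
        rw [f, mul_assoc, ← ((hT a ha).cen x hx).eq, ← mul_assoc, k2, mul_assoc,
          ← ((comm_of_sq hA.sq hx (mul_mem ha he)).map ι).eq]; group
      · refine ⟨_, Or.inr rfl, ?_⟩
        have k4 : ι e = ι a * ι (a * e) := by rw [← map_mul, ← mul_assoc, hA.sq a ha, one_mul]
        have k5 : Commute (ι (a * e)) (t * ι x * ι a) :=
          ((C.tι _).symm.mul_right ((comm_of_sq hA.sq (mul_mem ha he) hx).map ι)).mul_right
            ((comm_of_sq hA.sq (mul_mem ha he) ha).map ι)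
        rw [f, k4]
        calc _ = w d * w e * t * (ι x * w a) := by group
          _ = w d * w e * (t * w a) * ι x := by rw [← ((hT a ha).cen x hx).eq]; group
          _ = w d * w e * w a * (t * (ι a * ι x)) := by rw [(hT a ha).tu hA]; group
          _ = w a * (w d * w e) * (ι (a * e) * (t * ι x * ι a)) := by
            rw [k2, ((comm_of_sq hA.sq ha hx).map ι).eq]; group
          _ = _ := by rw [k5.eq]; group
    obtain ⟨y, hy, k3⟩ := k3
    by_cases h3 : F a (d * e)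
    · rw [← (show w a * w (d * e) = w (d * e) * w a from h3.eq), left_eq_mul, ← map_one ι] at k3
      rcases hy with rfl | rfl
      · exact ea (mul_left_cancel ((C.inj k3).trans (hA.sq a ha).symm))
      · exact e1 (C.inj k3)
    · rw [κ a ha _ hde h3] at k3
      have k4 := C.inj (mul_left_cancel k3)
      rcases hy with rfl | rfl
      · exact d1 (by simpa using k4)
      · rw [← mul_assoc, mul_eq_right] at k4
        exact da (mul_left_cancel (k4.trans (hA.sq a ha).symm))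
  have const : ∀ a ∈ V, ∀ d ∈ V, ∀ e ∈ V, a ≠ 1 → d ≠ 1 → d ≠ a → e ≠ 1 → e ≠ a → F a d → F a e := by
    intro a ha d hd e he a1 d1 da e1 ea h1
    obtain ⟨f, hf, hf'⟩ : ∃ f ∈ V, f ∉ ({1, a, d, a * d, e, a * e} : Finset A) := by
      by_contra hcon
      push Not at hcon
      have h2 : (V : Set A).ncard ≤ (({1, a, d, a * d, e, a * e} : Finset A) : Set A).ncard :=
        Set.ncard_le_ncard fun x hx => hcon x hx
      rw [Set.ncard_coe_finset] at h2
      have h3 : Nat.card V ≤ 6 := h2.trans Finset.card_le_six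
      have h4 : 2 ^ 3 ≤ 2 ^ m := Nat.pow_le_pow_right (by norm_num) hB.m3
      rw [hB.card] at h3
      omega
    simp only [Finset.mem_insert, Finset.mem_singleton, not_or] at hf'
    obtain ⟨f1, fa, fd, fad, fe, fae⟩ := hf'
    refine bil a ha f hf e he a1 f1 fa e1 ea (Ne.symm fe) (fun h => fae ?_)
      (bil a ha d hd f hf a1 d1 da f1 fa fd fad h1)
    rw [h, ← mul_assoc, hA.sq a ha, one_mul]
  by_cases hF : ∀ a ∈ V, ∀ d ∈ V, F a d
  · exact spl_of hA hB C hT (sec_of hA C false hT w1 ws hF)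
  exfalso
  have hN : ∀ a ∈ V, ∀ d ∈ V, a ≠ 1 → d ≠ 1 → d ≠ a → ¬ F a d := by
    intro a ha d hd a1 d1 da h
    refine hF fun x hx y hy => ?_
    by_cases x1 : x = 1
    · simp [F, x1, w1]
    by_cases y1 : y = 1
    · simp [F, y1, w1]
    by_cases yx : y = x
    · simp [F, yx]
    by_cases xa : x = a
    · exact xa ▸ const a ha d hd y hy a1 d1 da y1 (xa ▸ yx) h
    · exact const x hx a ha y hy x1 a1 (Ne.symm xa) y1 yx
        (const a ha d hd x hx a1 d1 da x1 xa h).symm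
  let w' : A → G := fun a => if a = 1 then 1 else w a * t
  have w1' : w' 1 = 1 := if_pos rfl
  have hT' : ∀ a ∈ V, T V ι t (w' a) a := fun a ha => by
    by_cases a1 : a = 1
    · rw [a1, w1', ← w1]; exact hT 1 V.one_mem
    · simpa [w', a1] using (hT a ha).mul (Tt C)
  refine hB.ext1 G ι w' (sec_of hA C true hT' w1' (fun a ha => ?_) fun a ha d hd => ?_)
  · by_cases a1 : a = 1
    · simp [a1, w1']
    · simp only [w', if_neg a1]
      rw [(hT a ha).sqt hA C, ws a ha, one_mul, cond_true]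
  · by_cases a1 : a = 1
    · simp [a1, w1']
    by_cases d1 : d = 1
    · simp [d1, w1']
    by_cases da : d = a
    · rw [da]
    simp only [w', if_neg a1, if_neg d1]
    have k := κ a ha d hd (hN a ha d hd a1 d1 da)
    have f : ∀ a ∈ V, ∀ d ∈ V, w a * t * (w d * t) = w a * w d * ι d := fun a ha d hd => by
      calc _ = w a * (t * w d) * t := by group
        _ = w a * w d * (t * ι d * t) := by rw [(hT d hd).tu hA]; group
        _ = _ := by rw [(C.tι d).eq, mul_assoc (ι d), C.tt, mul_one]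
    show _ = _
    rw [f a ha d hd, f d hd a ha, k, mul_assoc _ (ι (a * d)), ← map_mul, (comm_of_sq hA.sq ha hd).eq,
      mul_assoc d, hA.sq a ha, mul_one]

end CL.WS
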