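import Cfsg.Agent.INV.WR.DefB

/-!
Standard subgroups of wreathed type, second version: one class of involutions, outer automorphism
group of order at most two, covers with centre of odd order.
-/

set_option autoImplicit false

namespace CL.WS

open Subgroup
open CL.WR (cl Ext0 Ext1 nu fld)

universe u

variable {G : Type*} [Group G] {A : Type*} [Group A]

/-- inner automorphisms -/
def Inn (α : MulAut A) : Prop := ∃ a, α = MulAut.conj a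

/-- outer automorphisms of order two -/
def OI (α : MulAut A) : Prop := ¬ Inn α ∧ α * α = 1

/-- fixed points -/
def fix (α : MulAut A) : Subgroup A := α.toMonoidHom.eqLocus (MonoidHom.id A)

theorem mem_fix {α : MulAut A} {x : A} : x ∈ fix α ↔ α x = x := Iff.rfl

/-- one class of involutions, `V` elementary abelian of maximal order -/
structure HypA (V : Subgroup A) (z b : A) (S : Sylow 2 A) : Prop where
  simple : IsSimpleGroup A
  nonab : ¬ IsMulCommutative A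
  sq : ∀ v ∈ V, v * v = 1
  zV : z ∈ V
  bV : b ∈ V
  z2 : orderOf z = 2
  b2 : orderOf b = 2
  zb : z ≠ b
  one : ∀ a : A, orderOf a = 2 → IsConj z a
  derz : centralizer ({z} : Set A) ≤ ⁅centralizer ({z} : Set A), centralizer ({z} : Set A)⁆
  selfc : ∀ X : Subgroup A, (∀ x ∈ X, x * x = 1) → Nat.card V ≤ Nat.card X →
    centralizer (X : Set A) ≤ X
  VS : V ≤ S
  SN : (S : Subgroup A) ≤ normalizer (V : Set A)
  ZS : ∀ x, (x ∈ S ∧ ∀ s ∈ S, Commute x s) ↔ x = 1 ∨ x = z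

/-- automorphisms -/
structure HypO (V : Subgroup A) (z : A) (S : Sylow 2 A) (q : ℕ) : Prop where
  out2 : ∀ α β : MulAut A, ¬ Inn α → ¬ Inn β → Inn (α * β)
  innV : ∀ α : MulAut A, (∀ v ∈ V, α v ∈ V) → Inn α
  split : ∀ α : MulAut A, ¬ Inn α → ∃ a, MulAut.conj a * α * (MulAut.conj a * α) = 1
  rank : ∀ α : MulAut A, OI α → ∀ X ≤ fix α, (∀ x ∈ X, x * x = 1) → 2 * Nat.card X < Nat.card V
  small : ∀ α : MulAut A, OI α → ∀ Y ≤ fix α, IsPGroup 2 Y → Nat.card Y ≤ q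
  big : ∀ α : MulAut A, OI α → ∃ Q ≤ ⁅fix α, fix α⁆, IsPGroup 2 Q ∧ q ≤ Nat.card Q
  num1 : Nat.card S < q ^ 2
  num2 : 4 * q < Nat.card S
  fus : ∀ α : MulAut A, OI α → ∃ a y x, orderOf a = 2 ∧ a ∈ ⁅fix α, fix α⁆ ∧ y * (α y)⁻¹ = a ∧
    x ∈ fix α ∧ x * a * x⁻¹ ≠ a ∧ Commute a (x * a * x⁻¹)
  gen2 : (∃ α : MulAut A, ¬ Inn α) → ∀ a b : A, orderOf a = 2 → orderOf b = 2 → a ≠ b → Commute a b →
    centralizer {a} ⊔ centralizer {b} = (⊤ : Subgroup A)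
  gen : ∀ M : Subgroup A, (∀ x, orderOf x = 2 → Commute x z → centralizer {x} ≤ M) → M = ⊤
  sev : ∃ (p : ℕ) (x : A), p.Prime ∧ p ≠ 2 ∧ orderOf x = p ∧ Commute x z ∧
    ¬ p ^ 2 ∣ Nat.card (centralizer ({z} : Set A)) ∧ ∀ M : Subgroup A, x ∈ M →
      (∀ y, Commute y z → ∀ k ∈ M, y * k * y⁻¹ ∈ M) → (S : Subgroup A) ≤ M

/-- what is needed to construct `W = V × V^t`; `2 ^ m = |V|` -/
structure HypB (V : Subgroup A) (z : A) (S : Sylow 2 A) (m : ℕ) : Prop where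
  card : Nat.card V = 2 ^ m
  m3 : 3 ≤ m
  orb : ∀ v ∈ V, v = 1 ∨ v ∈ cl V z
  mov : ∀ X : Subgroup A, (∀ x ∈ X, x * x = 1) → Nat.card X = Nat.card V → ∀ x ∈ X, x ≠ 1 →
    ∃ n ∈ normalizer (X : Set A), ¬ Commute n x
  aut : ¬ Nat.card S ∣ ∏ i ∈ Finset.range m, (2 ^ m - 2 ^ i)
  sq : ∀ v ∈ V, (∀ n ∈ normalizer (V : Set A), Commute n z →
    n * v * n⁻¹ = v ∨ n * v * n⁻¹ = v * z) → v = 1 ∨ v = z
  ext0 : Ext0.{u} V
  ext1 : Ext1.{u} V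

/-- what is needed to construct the two factors -/
structure HypC (V : Subgroup A) (z c : A) (S : Sylow 2 A) : Prop where
  cN : c ∈ normalizer (V : Set A)
  cV : c ∉ V
  two : ∃ α : MulAut A, α z = z ∧ (∀ s ∈ S, α s ∈ S) ∧ ∀ M : Subgroup A,
    (∀ n ∈ normalizer (V : Set A), Commute n z → n ∈ M ∧ α n ∈ M) → centralizer {z} ≤ M
  uniq : ∀ X : Subgroup A, (∀ x ∈ X, x * x = 1) → Nat.card V ≤ Nat.card X →
    (∀ v ∈ V, Commute c v → v ∈ X) → c ∉ X → X = V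
  endo : ∀ α : A → A, (∀ v ∈ V, α v ∈ V) → (∀ u ∈ V, ∀ v ∈ V, α (u * v) = α u * α v) →
    (∀ n ∈ normalizer (V : Set A), Commute n c → ∀ v ∈ V, α (n * v * n⁻¹) = n * α v * n⁻¹) →
    ∃ x y : Bool, ∀ v ∈ V, α v = cond x v 1 * cond y (nu c v) 1
  swap : ∃ a ∈ V, ∃ ρ, IsConj z (nu c a) ∧ ρ * nu c a * ρ⁻¹ = c ∧ ρ * c * ρ⁻¹ = nu c a
  field : ∃ L : List A, (∀ d ∈ L, d ∈ cl V c) ∧
    (∀ x ∈ V, L.foldr fld (1, x) = (L.foldr fld (x, 1)).swap) ∧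
    ∀ n ∈ normalizer (V : Set A), ∃ x ∈ V, n * x * n⁻¹ ≠ (L.foldr fld (x, x)).1
  four : ∃ d ∈ cl V c, ∃ e ∈ cl V c, (d * e) ^ 2 * c ∈ V
  fixc : ∀ v ∈ V, (∀ n ∈ normalizer (V : Set A), Commute n c → Commute n v) → v = 1
  fixcl : ∀ v ∈ V, (∀ d ∈ cl V c, Commute d v) → v = 1
  inv : normalizer (V : Set A) ≤ closure {n | n ∈ normalizer (V : Set A) ∧ n * n = 1}
  gen : ∃ J : Set A, closure J = ⊤ ∧ ∀ j ∈ J, ∀ k ∈ J, ∃ y,
    (y * j * y⁻¹ ∈ cl V c ∨ y * j * y⁻¹ ∈ cl V z) ∧ (y * k * y⁻¹ ∈ cl V c ∨ y * k * y⁻¹ ∈ cl V z)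

/-- `C(t)` acts on `ι(A)` with kernel `⟨t⟩` -/
structure Cfg (t : G) (ι : A →* G) : Prop where
  t2 : orderOf t = 2
  inj : Function.Injective ι
  tι : ∀ x, Commute t (ι x)
  tn : ∀ x, t ≠ ι x
  act : ∀ g, Commute g t → ∃ α : MulAut A, ∀ x, g * ι x * g⁻¹ = ι (α x)
  ker : ∀ g, Commute g t → (∀ x, Commute g (ι x)) → g = 1 ∨ g = t

/-- `π : K → A` is a perfect central extension with kernel of odd order -/
structure Cov (K : Subgroup G) (π : K →* A) : Prop where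
  onto : Function.Surjective π
  cen : ∀ x : K, π x = 1 → ∀ y ∈ K, Commute (x : G) y
  odd : ∀ x : K, π x = 1 → Odd (orderOf (x : G))
  perf : ⁅K, K⁆ = K

/-- `g` normalises `K` and induces `α` on `A` -/
def Act {K : Subgroup G} (π : K →* A) (g : G) (α : MulAut A) : Prop :=
  ∀ x : K, ∃ y : K, (y : G) = g * x * g⁻¹ ∧ π y = α (π x)

/-- `C(t)` normalises `L`, and `C(t) ∩ C(L) = ⟨t⟩ × O` with `O` of odd order -/
structure CfG (t : G) (L : Subgroup G) (π : L →* A) (O : Subgroup G) : Prop where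
  cov : Cov L π
  t2 : orderOf t = 2
  tL : ∀ l ∈ L, Commute t l
  tO : ∀ o ∈ O, Commute t o
  LO : ∀ l ∈ L, ∀ o ∈ O, Commute l o
  odd : Odd (Nat.card O)
  norm : ∀ g, Commute g t → g ∈ normalizer (L : Set G)
  cen : ∀ g, Commute g t → (∀ l ∈ L, Commute g l) → g ∈ O ∨ g * t ∈ O

/-- `L` is the diagonal of `K K^t` -/
structure Wr (t : G) (L K : Subgroup G) : Prop where
  perf : ⁅K, K⁆ = K
  comm : ∀ x ∈ K, ∀ y ∈ K, Commute x (t * y * t⁻¹)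
  diag : ∀ l, l ∈ L ↔ ∃ x ∈ K, l = x * (t * x * t⁻¹)

/-- the wreathed structure exists when `O = 1` -/
def Core (A : Type*) [Group A] : Prop :=
  ∀ (H : Type u) [Group H] [Finite H] (t : H) (ι : A →* H), Cfg t ι →
    (∃ a, a ≠ 1 ∧ IsConj t (t * ι a)) → ∃ K, Wr t ι.range K

/-- the final configuration: `P × P` is a Sylow subgroup of the simple group `M` -/
structure Fs {P : Type*} [Group P] (V : Subgroup P) (z : P) (φ : P × P →* G) (t : G)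
    (M : Subgroup G) : Prop where
  pg : IsPGroup 2 P
  z2 : orderOf z = 2
  zV : z ∈ V
  sq : ∀ v ∈ V, v * v = 1
  ZS : ∀ x, (∀ s, Commute x s) ↔ x = 1 ∨ x = z
  zder : z ∈ commutator P
  selfc : ∀ X : Subgroup P, (∀ x ∈ X, x * x = 1) → Nat.card V ≤ Nat.card X →
    centralizer (X : Set P) ≤ X
  inj : Function.Injective φ
  t2 : t * t = 1
  sw : ∀ p, t * φ p * t⁻¹ = φ p.swap
  nM : M.Normal
  simple : IsSimpleGroup M
  le : ∀ p, φ p ∈ M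
  syl : ∀ Q ≤ M, IsPGroup 2 Q → Nat.card Q ≤ Nat.card P ^ 2
  cz : ∀ a, orderOf a = 2 → ∃ k ∈ M, k * φ (a, 1) * k⁻¹ = φ (z, 1) ∧ ∀ y, Commute k (φ (1, y))
  der : ∃ K ≤ M, (∀ k ∈ K, ∀ x, Commute k (φ (x, 1))) ∧ ∀ y, φ (1, y) ∈ ⁅K, K⁆

end CL.WS
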