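import Cfsg.Agent.INV.WS.FinD1

/-! Transfer: the simple normal subgroup induces inner automorphisms on the factors. -/

set_option autoImplicit false
set_option linter.unusedSectionVars false

namespace CL.WS

open Subgroup CL.MSS
open CL.WR (Fn.sq Fn.ord Fn.ne Fn.cen Fn.two_sq Fn.two)
open scoped commutatorElement

variable {G : Type*} [Group G] [Finite G] {A : Type*} [Group A] {V : Subgroup A} {z b : A}
  {S : Sylow 2 A} {q : ℕ} {t : G} {L O K : Subgroup G} {π : L →* A} {κ : K →* A}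

namespace Fz

variable (s : Fz V z b S q t L π O K κ) {F : Subgroup G} [F.Normal]
include s

theorem K_le (hL : L ≤ F) : K ≤ F := s.K_le' hL

theorem exists_syl (F : Subgroup G) [F.Normal] :
    ∃ T ≤ HH t K ⊓ F, IsPGroup 2 T ∧ Odd (T.relIndex F) := by
  obtain ⟨Q, hQ, ht⟩ := exists_sylIn_ge (Fn.two_sq s.tt) (le_top : zpowers t ≤ ⊤)
  have h1 := hQ.inf_normal_of_le (N := F) le_normalizer_of_normal le_top
  exact ⟨Q ⊓ F, inf_le_inf_right F (s.le_HH hQ.pgroup (ht (mem_zpowers t))), h1.pgroup,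
    Nat.odd_iff.2 (by have := h1.not_dvd_relIndex; omega)⟩

theorem transfer (hF : IsSimpleGroup F) (hL : L ≤ F) {N : Subgroup G}
    (hN : ∀ g ∈ HH t K ⊓ F, ∀ h ∈ HH t K ⊓ F, ⁅g, h⁆ ∈ N) {u : G} (hu : u ∈ HH t K ⊓ F)
    (u2 : u * u = 1) (hn : u ∉ N) : ∃ g, g * u * g⁻¹ ∈ HH t K ⊓ F ∧ g * u * g⁻¹ * u ∉ N := by
  by_contra hc
  push Not at hc
  obtain ⟨T, h1, -, h2⟩ := s.exists_syl F
  refine hn (mem_of_transfer (F := F) inf_le_right (h2.of_dvd_nat (relIndex_dvd_of_le_left F h1))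
    (commutator_le.2 hN) hu u2 ?_ fun g _ => hc g)
  rcases (inferInstance : (commutator F).Normal).eq_bot_or_eq_top with e | e
  · have h3 : ⁅F, F⁆ = ⊥ := by rw [← map_subtype_commutator, e, Subgroup.map_bot]
    have h4 : K = ⊥ := by
      rw [eq_bot_iff, ← s.W.perf, ← h3]; exact commutator_mono (s.K_le hL) (s.K_le hL)
    exact (s.W.not_cen s.hA s.C fun x hx => by
      rw [h4, mem_bot] at hx; rw [hx]; exact Commute.one_right t).elim
  · rw [← map_subtype_commutator, e]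
    exact ⟨⟨u, hu.2⟩, mem_top _, rfl⟩

theorem mul_t {g : G} (hg : g ∈ HH t K) : g * t ∈ H0 t K ↔ g ∉ H0 t K := by
  have := s.sgnH g hg t t_mem_HH
  have := s.t_notMem
  tauto

theorem step1 (hF : IsSimpleGroup F) (hL : L ≤ F) : t ∉ F := fun ht => by
  obtain ⟨g, h1, h2⟩ := s.transfer hF hL (N := H0 t K) (fun g hg h hh => s.sgnH.comm hg.1 hh.1)
    ⟨t_mem_HH, ht⟩ s.tt s.t_notMem
  exact h2 ((s.mul_t h1.1).2 (s.swap g))

theorem step2 (hF : IsSimpleGroup F) (hL : L ≤ F) {h : G} (hh : h ∈ F) : h * t ∉ N1 t K := fun hn =>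
  s.step1 hF hL (s.mem_F hL s.tt hn (by
    simpa [mul_assoc] using ‹F.Normal›.conj_mem _ (inv_mem hh) t⁻¹))

theorem step5 (hF : IsSimpleGroup F) (hL : L ≤ F) {u : G} (u2 : u * u = 1) (uF : u ∈ F)
    (ut : Commute u t) : u * t ∉ H0 t K := fun hu => by
  have e : t * (u * t) * t⁻¹ = u * t := by rw [← mul_assoc, ← ut.eq]; group
  have ho : ¬ II κ (u * t) := fun hi => s.step2 hF hL uF ((s.mem_N1' hu).2 ⟨hi, e.symm ▸ hi⟩)
  have h1 : ∀ h ∈ F, h ∈ H0 t K → ¬ II κ h → II κ (t * h * t⁻¹) := fun h hF' hh h2 => by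
    by_contra h3
    refine s.step2 hF hL (mul_mem uF hF') ?_
    have := s.mul_mem_N1 hu (conj_mem_H0 s.tt hh) (by tauto) (by rw [e, tt_conj s.tt]; tauto)
    rwa [show u * t * (t * h * t⁻¹) = u * (t * t) * h * t⁻¹ by group, s.tt, mul_one, s.ti] at this
  have h2 : ∀ h ∈ F, h ∈ H0 t K → h ∈ N1 t K := fun h hF' hh => by
    by_cases hm : II κ h ↔ II κ (t * h * t⁻¹)
    · have := h1 h hF' hh
      exact (s.mem_N1' hh).2 (by tauto)
    · obtain ⟨h3, h4⟩ := s.mixed hh hm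
      exact absurd (h1 _ (mul_mem hF' (‹F.Normal›.conj_mem h hF' t))
        (mul_mem hh (conj_mem_H0 s.tt hh)) h3) h4
  have uH : u ∈ HH t K := (mem_HH s.tt).2 (Or.inr hu)
  have un := (s.mul_t uH).1 hu
  obtain ⟨g, h3, h4⟩ := s.transfer hF hL (N := H0 t K) (fun g hg h hh => s.sgnH.comm hg.1 hh.1)
    ⟨uH, uF⟩ u2 un
  have h5 : g * u * g⁻¹ ∈ H0 t K := by
    have := s.sgnH _ h3.1 _ uH
    tauto
  obtain ⟨R, r1, r2, r3, r4⟩ := s.lower hL u2 h5 (Or.inl ((s.mem_N1' h5).1 (h2 _ h3.2 h5)).1)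
  obtain ⟨Q, q1, q2, q3, q4⟩ := s.upper F ut
  obtain ⟨Q₁, p1, p2, p3⟩ := s.sgnH.card (q1.trans inf_le_left)
  have h6 := s.card_le_swap (q2.to_le p1) (fun x hx => h2 x (q1 (p1 hx)).2 (p2 x hx)) (ut.eq ▸ hu)
    fun x hx => q3 x (p1 hx)
  have h7 := q4 R r1 r2 r3
  have n1 := s.hO.num1
  have n2 := s.hO.num2
  have h8 : Nat.card S * q ≤ Nat.card S * 2 := by omega
  have h9 := Nat.le_of_mul_le_mul_left h8 (by omega)
  nlinarith

theorem step6 (hF : IsSimpleGroup F) (hL : L ≤ F) {u : G} (u2 : u * u = 1) (uF : u ∈ F)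
    (ut : Commute u t) (hu : u ∈ H0 t K) : II κ u := by
  by_contra ho
  have e : t * u * t⁻¹ = u := by rw [← ut.eq, mul_inv_cancel_right]
  have h1 : ∀ w ∈ F, w * t ∈ H0 t K → ¬ (II κ (w * t) ↔ II κ (t * (w * t) * t⁻¹)) := fun w wF hw hm => by
    by_cases hi : II κ (w * t)
    · exact s.step2 hF hL wF ((s.mem_N1' hw).2 ⟨hi, hm.1 hi⟩)
    · refine s.step2 hF hL (mul_mem wF uF) ?_
      have := s.mul_mem_N1 hw hu (by tauto) (by rw [e]; tauto)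
      rwa [mul_assoc, ← ut.eq, ← mul_assoc] at this
  have h2 : ∀ w ∈ HH t K ⊓ F, w * w = 1 → w ∈ H0 t K := fun w hw w2 => by
    by_contra hn
    have h3 := (s.mul_t hw.1).2 hn
    refine (s.mixed h3 (h1 w hw.2 h3)).1 ?_
    rw [show w * t * (t * (w * t) * t⁻¹) = w * (t * t) * w by group, s.tt, mul_one, w2]
    exact s.sgnN.one
  have h3 : HH t K ⊓ F ≤ H0 t K ∨ ∀ k ∈ F, k ∈ H0 t K → (II κ k ↔ II κ (t * k * t⁻¹)) := by
    refine or_iff_not_imp_left.2 fun hn k kF hk => ?_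
    obtain ⟨w, hw, hn⟩ := SetLike.not_le_iff_exists.1 hn
    have h4 := (s.mul_t hw.1).2 hn
    have h5 := h1 w hw.2 h4
    have h6 := h1 (k * w) (mul_mem kF hw.2) (mul_assoc k w t ▸ mul_mem hk h4)
    rw [mul_assoc k w t] at h6
    have := s.sgn1 _ hk _ h4
    have := s.sgn2 _ hk _ h4
    tauto
  have h4 : ∀ g ∈ HH t K ⊓ F, ∀ h ∈ HH t K ⊓ F, ⁅g, h⁆ ∈ N1 t K := by
    rcases h3 with h3 | h3
    · exact fun g hg h hh => (s.mem_N1' (s.sgnH.comm hg.1 hh.1)).2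
        ⟨s.sgn1.comm (h3 hg) (h3 hh), s.sgn2.comm (h3 hg) (h3 hh)⟩
    have k1 : ∀ g ∈ HH t K ⊓ F, ∀ h ∈ HH t K ⊓ F, g ∈ H0 t K → ⁅g, h⁆ ∈ N1 t K := fun g hg h hh g0 => by
      have c0 := s.sgnH.comm hg.1 hh.1
      have cF : ⁅g, h⁆ ∈ F := (commutator_le_left F ⊤) (commutator_mem_commutator hg.2 (mem_top h))
      have : II κ ⁅g, h⁆ := by
        by_cases h0 : h ∈ H0 t K
        · exact s.sgn1.comm g0 h0
        have h5 := (s.mul_t hh.1).2 h0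
        have e1 : ⁅g, h⁆ = g * (h * t * (t * g * t⁻¹)⁻¹ * (h * t)⁻¹) := by
          calc ⁅g, h⁆ = g * (h * (t * t) * g⁻¹ * (t * t)⁻¹ * h⁻¹) := by
                rw [s.tt, commutatorElement_def]; group
            _ = _ := by group
        have g1 := conj_mem_H0 s.tt g0
        rw [e1, s.sgn1 _ g0 _ (mul_mem (mul_mem h5 (inv_mem g1)) (inv_mem h5)),
          s.sgn1.conj h5 (inv_mem g1), s.sgn1.inv g1]
        exact h3 g hg.2 g0
      exact (s.mem_N1' c0).2 ⟨this, (h3 _ cF c0).1 this⟩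
    intro g hg h hh
    by_cases g0 : g ∈ H0 t K
    · exact k1 g hg h hh g0
    by_cases h0 : h ∈ H0 t K
    · rw [← commutatorElement_inv]; exact inv_mem (k1 h hh g hg h0)
    · have := k1 (g * h⁻¹) (mul_mem hg (inv_mem hh)) h hh (by
        have := s.sgnH g hg.1 h⁻¹ (inv_mem hh.1)
        have := s.sgnH.inv hh.1
        tauto)
      rwa [show ⁅g * h⁻¹, h⁆ = ⁅g, h⁆ by simp only [commutatorElement_def]; group] at this
  obtain ⟨g, h5, h6⟩ := s.transfer hF hL h4 ⟨H0_le_HH hu, uF⟩ u2 fun hn => ho ((s.mem_N1' hu).1 hn).1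
  have h7 := h2 _ h5 (sq_conj u2 g)
  obtain ⟨R, r1, r2, r3, r4⟩ := s.lower hL u2 h7 (by
    by_contra hn
    exact h6 (s.mul_mem_N1 h7 hu (by tauto) (by rw [e]; tauto)))
  obtain ⟨Q, q1, q2, q3, q4⟩ := s.upper F ut
  obtain ⟨Q₂, p1, p2, p3⟩ : ∃ Q₂ ≤ Q, Q₂ ≤ N1 t K ∧ Nat.card Q ≤ 4 * Nat.card Q₂ := by
    rcases h3 with h3 | h3
    · obtain ⟨Q₁, a1, a2, a3⟩ := s.sgn1.card (q1.trans h3)
      obtain ⟨Q₂, b1, b2, b3⟩ := s.sgn2.card (a1.trans (q1.trans h3))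
      exact ⟨Q₂, b1.trans a1, fun x hx => (s.mem_N1' (h3 (q1 (a1 (b1 hx))))).2 ⟨a2 x (b1 hx), b2 x hx⟩,
        by omega⟩
    · obtain ⟨Q₁, a1, a2, a3⟩ := s.sgnH.card (q1.trans inf_le_left)
      obtain ⟨Q₂, b1, b2, b3⟩ := s.sgn1.card (Q := Q₁) a2
      exact ⟨Q₂, b1.trans a1, fun x hx => (s.mem_N1' (a2 x (b1 hx))).2
        ⟨b2 x hx, (h3 x (q1 (a1 (b1 hx))).2 (a2 x (b1 hx))).1 (b2 x hx)⟩, by omega⟩
  have h8 := s.card_le_out (q2.to_le p1) p2 hu u2 ut ho fun x hx => q3 x (p1 hx)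
  have h9 := q4 R r1 r2 r3
  have n1 := s.hO.num1
  have n2 := s.hO.num2
  have q0 : 0 < q := Nat.pos_of_ne_zero fun e => by simp [e] at n1
  have h10 : Nat.card S * q ≤ 4 * q * q := by nlinarith
  have := Nat.le_of_mul_le_mul_right h10 q0
  omega

/-- an element of type (outer, outer) is congruent to an involution of `C(t)` -/
theorem exists_inv {h : G} (hh : h ∈ H0 t K) (h1 : ¬ II κ h) (h2 : ¬ II κ (t * h * t⁻¹)) :
    ∃ u ∈ H0 t K, u * u = 1 ∧ Commute u t ∧ ¬ II κ u := by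
  have ti := s.ti
  have h3 := conj_mem_H0 s.tt hh
  have h4 := s.mul_mem_N1 hh (inv_mem h3) (by rw [s.sgn1.inv h3]; tauto)
    (by rw [s.sgn2.inv h3]; simp only [tt_conj s.tt]; tauto)
  obtain ⟨x, hx, y, hy, c, hc, e⟩ := s.mem_N1.1 h4
  have e1 : x⁻¹ * (h * t * h⁻¹) * x = t * (y * x) * t⁻¹ * c * t := by
    calc x⁻¹ * (h * t * h⁻¹) * x = x⁻¹ * (h * (t * h * t⁻¹)⁻¹) * t * x := by group
      _ = t * y * t⁻¹ * (c * (t * x * t⁻¹)) * t := by rw [e]; group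
      _ = _ := by rw [(C0_comm' s.tt hc hx).eq]; group
  have e2 : t * (y * x) * t⁻¹ * c * t * (t * (y * x) * t⁻¹ * c * t) = 1 := by
    have := sq_conj (sq_conj s.tt h) x⁻¹
    rwa [inv_inv, e1] at this
  have c0 : t * (y * x) * t⁻¹ * c ∈ centralizer (K : Set G) :=
    mul_mem (fun k hk => (s.W.comm k hk _ (mul_mem hy hx)).eq) hc.1
  generalize t * (y * x) * t⁻¹ * c = d at e1 e2 c0
  have e3 : t * d * t⁻¹ = d⁻¹ := eq_inv_of_mul_eq_one_right (by rw [ti, ← e2]; group)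
  have c1 : d ∈ C0 t K := mem_C0.2 ⟨c0, e3 ▸ inv_mem c0⟩
  obtain ⟨k, hk⟩ := s.odd_C0
  have pw : ∀ c ∈ C0 t K, c ^ (2 * k + 1) = 1 := fun c hc => by
    rw [← hk]; exact congrArg Subtype.val (pow_card_eq_one' (x := (⟨c, hc⟩ : C0 t K)))
  have n1 : d ^ k * x⁻¹ ∈ N1 t K :=
    mul_mem (mem_sup_right (pow_mem c1 k)) (mem_sup_left (mem_sup_left (inv_mem hx)))
  have f1 : Commute (d ^ k * x⁻¹ * h) t := by
    refine mul_inv_eq_iff_eq_mul.1 ?_
    calc d ^ k * x⁻¹ * h * t * (d ^ k * x⁻¹ * h)⁻¹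
        = d ^ k * (x⁻¹ * (h * t * h⁻¹) * x) * (d ^ k)⁻¹ := by group
      _ = d ^ k * d * ((t * d * t⁻¹) ^ k)⁻¹ * t := by rw [e1, conj_pow]; group
      _ = d ^ (2 * k + 1) * t := by rw [e3]; group
      _ = t := by rw [pw d c1, one_mul]
  have f2 := mul_mem (s.N1_le n1) hh
  have f3 : ¬ II κ (d ^ k * x⁻¹ * h) := by
    have := s.sgn1 _ (s.N1_le n1) _ hh
    have := (s.mem_N1' (s.N1_le n1)).1 n1
    tauto
  generalize d ^ k * x⁻¹ * h = f at f1 f2 f3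
  obtain ⟨α, hα⟩ := s.exists_act f2.1
  have ho : ¬ Inn α := fun hi => f3 ((s.ii_iff hα).2 hi)
  obtain ⟨a, ha⟩ := s.hO.split α ho
  obtain ⟨w, rfl⟩ := s.cov.onto a
  have g1 := (s.act_left w w.2).mul hα
  have g2 : Commute ((w : G) * (t * w * t⁻¹) * f) t :=
    (s.C.tL _ ((s.W.diag _).2 ⟨w, w.2, rfl⟩)).symm.mul_left f1
  have g3 : (w : G) * (t * w * t⁻¹) * f ∈ H0 t K :=
    mul_mem (mul_mem (s.K_le_H0 w.2) (conj_mem_H0 s.tt (s.K_le_H0 w.2))) f2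
  have g4 : ¬ II κ ((w : G) * (t * w * t⁻¹) * f) := by
    rw [s.ii_iff g1, (Inn.conj _).mul_iff_left]; exact ho
  generalize (w : G) * (t * w * t⁻¹) * f = u at g1 g2 g3 g4
  have g5 : u * u ∈ C0 t K := by
    have := g1.mul g1
    rw [ha] at this
    exact s.mem_C0_of_act this (by rwa [← (g2.mul_left g2).eq, mul_inv_cancel_right])
  refine ⟨u ^ (2 * k + 1), pow_mem g3 _, by rw [← (Commute.refl u).mul_pow, pw _ g5], g2.pow_left _, ?_⟩
  have g6 : u ^ (2 * k) ∈ N1 t K := by rw [pow_mul, pow_two]; exact mem_sup_right (pow_mem g5 k)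
  have := s.sgn1 _ (s.N1_le g6) _ g3
  have := (s.mem_N1' (s.N1_le g6)).1 g6
  rw [pow_succ]
  tauto

theorem inner (hF : IsSimpleGroup F) (hL : L ≤ F) : HH t K ⊓ F ≤ N1 t K := by
  intro h hh
  by_contra hn
  obtain ⟨h₀, a1, a2, a3, a4⟩ : ∃ h₀ ∈ H0 t K, ¬ II κ h₀ ∧ ¬ II κ (t * h₀ * t⁻¹) ∧ (h₀ ∈ F ∨ h₀ * t ∈ F) := by
    by_cases h0 : h ∈ H0 t K
    · by_cases hm : II κ h ↔ II κ (t * h * t⁻¹)
      · have := s.mem_N1' h0
        exact ⟨h, h0, by tauto, by tauto, Or.inl hh.2⟩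
      · exact ⟨_, mul_mem h0 (conj_mem_H0 s.tt h0), (s.mixed h0 hm).1, (s.mixed h0 hm).2,
          Or.inl (mul_mem hh.2 (‹F.Normal›.conj_mem h hh.2 t))⟩
    · have h1 := (s.mul_t hh.1).2 h0
      by_cases hm : II κ (h * t) ↔ II κ (t * (h * t) * t⁻¹)
      · have := s.mem_N1' h1
        have := s.step2 hF hL hh.2
        exact ⟨_, h1, by tauto, by tauto, Or.inr (by rw [mul_assoc, s.tt, mul_one]; exact hh.2)⟩
      · refine ⟨_, mul_mem h1 (conj_mem_H0 s.tt h1), (s.mixed h1 hm).1, (s.mixed h1 hm).2, Or.inl ?_⟩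
        rw [show h * t * (t * (h * t) * t⁻¹) = h * (t * t) * h by group, s.tt, mul_one]
        exact mul_mem hh.2 hh.2
  obtain ⟨u, b1, b2, b3, b4⟩ := s.exists_inv a1 a2 a3
  have e : t * u * t⁻¹ = u := by rw [← b3.eq, mul_inv_cancel_right]
  have h1 := s.mul_mem_N1 b1 (inv_mem a1) (by rw [s.sgn1.inv a1]; tauto)
    (by rw [s.sgn2.inv a1, e]; tauto)
  rcases a4 with a4 | a4
  · exact b4 (s.step6 hF hL b2 (s.mem_F hL b2 h1 (by simpa [mul_assoc] using a4)) b3 b1)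
  · have h2 : u * t * (u * t) = 1 := by rw [b3.symm.mul_mul_mul_comm, b2, s.tt, one_mul]
    refine s.step5 hF hL h2 (s.mem_F hL h2 h1 (by simpa [mul_assoc] using a4))
      (b3.mul_left (Commute.refl t)) ?_
    rwa [mul_assoc, s.tt, mul_one]

end Fz

end CL.WS
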